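/-
The tests that every point descends to a least point.
-/
import Cfsg.Agent.Lib.Spor.Fi24Pres.Test
import Cfsg.Agent.Lib.Spor.Fi24Pres.Orbits

namespace CfsgLib.Spor.Fi24

open CfsgLib.Spor.TC

/-- Descent by seven letters, and inside an interval by eight. -/
noncomputable def rootTest (lo p : ℕ) : Bool :=
  strict (row p) fun r =>
  ((Nat.blt (Nat.land (Nat.shiftRight r 95) 524287) p || Nat.blt (Nat.land (Nat.shiftRight r 114) 524287) p || Nat.blt (Nat.land (Nat.shiftRight r 133) 524287) p || Nat.blt (Nat.land (Nat.shiftRight r 152) 524287) p || Nat.blt (Nat.land (Nat.shiftRight r 171) 524287) p || Nat.blt (Nat.land (Nat.shiftRight r 190) 524287) p || Nat.blt (Nat.land (Nat.shiftRight r 209) 524287) p) || memNat p dRoots) &&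
  (Nat.beq p lo || ((Nat.ble lo (Nat.land (Nat.shiftRight r 76) 524287) && Nat.blt (Nat.land (Nat.shiftRight r 76) 524287) p) || (Nat.ble lo (Nat.land (Nat.shiftRight r 95) 524287) && Nat.blt (Nat.land (Nat.shiftRight r 95) 524287) p) || (Nat.ble lo (Nat.land (Nat.shiftRight r 114) 524287) && Nat.blt (Nat.land (Nat.shiftRight r 114) 524287) p) || (Nat.ble lo (Nat.land (Nat.shiftRight r 133) 524287) && Nat.blt (Nat.land (Nat.shiftRight r 133) 524287) p) || (Nat.ble lo (Nat.land (Nat.shiftRight r 152) 524287) && Nat.blt (Nat.land (Nat.shiftRight r 152) 524287) p) || (Nat.ble lo (Nat.land (Nat.shiftRight r 171) 524287) && Nat.blt (Nat.land (Nat.shiftRight r 171) 524287) p) || (Nat.ble lo (Nat.land (Nat.shiftRight r 190) 524287) && Nat.blt (Nat.land (Nat.shiftRight r 190) 524287) p) || (Nat.ble lo (Nat.land (Nat.shiftRight r 209) 524287) && Nat.blt (Nat.land (Nat.shiftRight r 209) 524287) p)))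

end CfsgLib.Spor.Fi24
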