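/-
Descent on ranges of points.
-/
import Cfsg.Agent.Lib.Spor.Fi24Pres.RootTest.Test

namespace CfsgLib.Spor.Fi24

open CfsgLib.Spor.TC

set_option maxRecDepth 100000 in
theorem rootRange0 : RangeTest (rootTest 0) 0 1 :=
  RangeTest.of_check (by decide +kernel)

set_option maxRecDepth 100000 in
theorem rootRange1 : RangeTest (rootTest 1) 1 2 :=
  RangeTest.of_check (by decide +kernel)

set_option maxRecDepth 100000 in
theorem rootRange2 : RangeTest (rootTest 2) 2 3 :=
  RangeTest.of_check (by decide +kernel)

set_option maxRecDepth 100000 in
theorem rootRange3 : RangeTest (rootTest 3) 3 4 :=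
  RangeTest.of_check (by decide +kernel)

set_option maxRecDepth 100000 in
theorem rootRange4 : RangeTest (rootTest 4) 4 5 :=
  RangeTest.of_check (by decide +kernel)

set_option maxRecDepth 100000 in
theorem rootRange5 : RangeTest (rootTest 5) 5 965 :=
  RangeTest.of_check (by decide +kernel)

set_option maxRecDepth 100000 in
theorem rootRange965 : RangeTest (rootTest 965) 965 966 :=
  RangeTest.of_check (by decide +kernel)

set_option maxRecDepth 100000 in
theorem rootRange966 : RangeTest (rootTest 966) 966 1926 :=
  RangeTest.of_check (by decide +kernel)

set_option maxRecDepth 100000 in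
theorem rootRange1926 : RangeTest (rootTest 1926) 1926 2886 :=
  RangeTest.of_check (by decide +kernel)

set_option maxRecDepth 100000 in
theorem rootRange2886 : RangeTest (rootTest 2886) 2886 3846 :=
  RangeTest.of_check (by decide +kernel)

set_option maxRecDepth 100000 in
theorem rootRange3846 : RangeTest (rootTest 3846) 3846 3966 :=
  RangeTest.of_check (by decide +kernel)

set_option maxRecDepth 100000 in
theorem rootRange3966 : RangeTest (rootTest 3966) 3966 5466 :=
  RangeTest.of_check (by decide +kernel)

set_option maxRecDepth 100000 in
theorem rootRange5466 : RangeTest (rootTest 3966) 5466 6966 :=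
  RangeTest.of_check (by decide +kernel)

set_option maxRecDepth 100000 in
theorem rootRange6966 : RangeTest (rootTest 3966) 6966 7116 :=
  RangeTest.of_check (by decide +kernel)

set_option maxRecDepth 100000 in
theorem rootRange7116 : RangeTest (rootTest 7116) 7116 8616 :=
  RangeTest.of_check (by decide +kernel)

set_option maxRecDepth 100000 in
theorem rootRange8616 : RangeTest (rootTest 7116) 8616 10116 :=
  RangeTest.of_check (by decide +kernel)

set_option maxRecDepth 100000 in
theorem rootRange10116 : RangeTest (rootTest 7116) 10116 10266 :=
  RangeTest.of_check (by decide +kernel)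

set_option maxRecDepth 100000 in
theorem rootRange10266 : RangeTest (rootTest 10266) 10266 11766 :=
  RangeTest.of_check (by decide +kernel)

set_option maxRecDepth 100000 in
theorem rootRange11766 : RangeTest (rootTest 10266) 11766 13266 :=
  RangeTest.of_check (by decide +kernel)

set_option maxRecDepth 100000 in
theorem rootRange13266 : RangeTest (rootTest 10266) 13266 13416 :=
  RangeTest.of_check (by decide +kernel)

end CfsgLib.Spor.Fi24
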