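/-
Descent on ranges of points.
-/
import Cfsg.Agent.Lib.Spor.Fi24Pres.RootTest.Test

namespace CfsgLib.Spor.Fi24

open CfsgLib.Spor.TC

set_option maxRecDepth 100000 in
theorem rootRange13416 : RangeTest (rootTest 13416) 13416 14916 :=
  RangeTest.of_check (by decide +kernel)

set_option maxRecDepth 100000 in
theorem rootRange14916 : RangeTest (rootTest 13416) 14916 16416 :=
  RangeTest.of_check (by decide +kernel)

set_option maxRecDepth 100000 in
theorem rootRange16416 : RangeTest (rootTest 13416) 16416 17916 :=
  RangeTest.of_check (by decide +kernel)

set_option maxRecDepth 100000 in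
theorem rootRange17916 : RangeTest (rootTest 13416) 17916 19416 :=
  RangeTest.of_check (by decide +kernel)

set_option maxRecDepth 100000 in
theorem rootRange19416 : RangeTest (rootTest 13416) 19416 20916 :=
  RangeTest.of_check (by decide +kernel)

set_option maxRecDepth 100000 in
theorem rootRange20916 : RangeTest (rootTest 13416) 20916 22416 :=
  RangeTest.of_check (by decide +kernel)

set_option maxRecDepth 100000 in
theorem rootRange22416 : RangeTest (rootTest 13416) 22416 23916 :=
  RangeTest.of_check (by decide +kernel)

set_option maxRecDepth 100000 in
theorem rootRange23916 : RangeTest (rootTest 13416) 23916 25416 :=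
  RangeTest.of_check (by decide +kernel)

set_option maxRecDepth 100000 in
theorem rootRange25416 : RangeTest (rootTest 13416) 25416 26916 :=
  RangeTest.of_check (by decide +kernel)

set_option maxRecDepth 100000 in
theorem rootRange26916 : RangeTest (rootTest 13416) 26916 28416 :=
  RangeTest.of_check (by decide +kernel)

set_option maxRecDepth 100000 in
theorem rootRange28416 : RangeTest (rootTest 13416) 28416 29916 :=
  RangeTest.of_check (by decide +kernel)

set_option maxRecDepth 100000 in
theorem rootRange29916 : RangeTest (rootTest 13416) 29916 31416 :=
  RangeTest.of_check (by decide +kernel)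

set_option maxRecDepth 100000 in
theorem rootRange31416 : RangeTest (rootTest 13416) 31416 32916 :=
  RangeTest.of_check (by decide +kernel)

set_option maxRecDepth 100000 in
theorem rootRange32916 : RangeTest (rootTest 13416) 32916 34416 :=
  RangeTest.of_check (by decide +kernel)

set_option maxRecDepth 100000 in
theorem rootRange34416 : RangeTest (rootTest 13416) 34416 35816 :=
  RangeTest.of_check (by decide +kernel)

set_option maxRecDepth 100000 in
theorem rootRange35816 : RangeTest (rootTest 35816) 35816 37316 :=
  RangeTest.of_check (by decide +kernel)

set_option maxRecDepth 100000 in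
theorem rootRange37316 : RangeTest (rootTest 35816) 37316 38816 :=
  RangeTest.of_check (by decide +kernel)

set_option maxRecDepth 100000 in
theorem rootRange38816 : RangeTest (rootTest 35816) 38816 40316 :=
  RangeTest.of_check (by decide +kernel)

set_option maxRecDepth 100000 in
theorem rootRange40316 : RangeTest (rootTest 35816) 40316 41816 :=
  RangeTest.of_check (by decide +kernel)

set_option maxRecDepth 100000 in
theorem rootRange41816 : RangeTest (rootTest 35816) 41816 43316 :=
  RangeTest.of_check (by decide +kernel)

end CfsgLib.Spor.Fi24
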