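/-
Descent on ranges of points.
-/
import Cfsg.Agent.Lib.Spor.Fi24Pres.RootTest.Test

namespace CfsgLib.Spor.Fi24

open CfsgLib.Spor.TC

set_option maxRecDepth 100000 in
theorem rootRange282816 : RangeTest (rootTest 147816) 282816 284316 :=
  RangeTest.of_check (by decide +kernel)

set_option maxRecDepth 100000 in
theorem rootRange284316 : RangeTest (rootTest 147816) 284316 285816 :=
  RangeTest.of_check (by decide +kernel)

set_option maxRecDepth 100000 in
theorem rootRange285816 : RangeTest (rootTest 147816) 285816 287316 :=
  RangeTest.of_check (by decide +kernel)

set_option maxRecDepth 100000 in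
theorem rootRange287316 : RangeTest (rootTest 147816) 287316 288816 :=
  RangeTest.of_check (by decide +kernel)

set_option maxRecDepth 100000 in
theorem rootRange288816 : RangeTest (rootTest 147816) 288816 290316 :=
  RangeTest.of_check (by decide +kernel)

set_option maxRecDepth 100000 in
theorem rootRange290316 : RangeTest (rootTest 147816) 290316 291816 :=
  RangeTest.of_check (by decide +kernel)

set_option maxRecDepth 100000 in
theorem rootRange291816 : RangeTest (rootTest 147816) 291816 293316 :=
  RangeTest.of_check (by decide +kernel)

set_option maxRecDepth 100000 in
theorem rootRange293316 : RangeTest (rootTest 147816) 293316 294816 :=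
  RangeTest.of_check (by decide +kernel)

set_option maxRecDepth 100000 in
theorem rootRange294816 : RangeTest (rootTest 147816) 294816 296316 :=
  RangeTest.of_check (by decide +kernel)

set_option maxRecDepth 100000 in
theorem rootRange296316 : RangeTest (rootTest 147816) 296316 297816 :=
  RangeTest.of_check (by decide +kernel)

set_option maxRecDepth 100000 in
theorem rootRange297816 : RangeTest (rootTest 147816) 297816 299016 :=
  RangeTest.of_check (by decide +kernel)

set_option maxRecDepth 100000 in
theorem rootRange299016 : RangeTest (rootTest 299016) 299016 300516 :=
  RangeTest.of_check (by decide +kernel)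

set_option maxRecDepth 100000 in
theorem rootRange300516 : RangeTest (rootTest 299016) 300516 300936 :=
  RangeTest.of_check (by decide +kernel)

set_option maxRecDepth 100000 in
theorem rootRange300936 : RangeTest (rootTest 300936) 300936 302436 :=
  RangeTest.of_check (by decide +kernel)

set_option maxRecDepth 100000 in
theorem rootRange302436 : RangeTest (rootTest 300936) 302436 302856 :=
  RangeTest.of_check (by decide +kernel)

set_option maxRecDepth 100000 in
theorem rootRange302856 : RangeTest (rootTest 302856) 302856 304356 :=
  RangeTest.of_check (by decide +kernel)

set_option maxRecDepth 100000 in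
theorem rootRange304356 : RangeTest (rootTest 302856) 304356 304776 :=
  RangeTest.of_check (by decide +kernel)

set_option maxRecDepth 100000 in
theorem rootRange304776 : RangeTest (rootTest 304776) 304776 306276 :=
  RangeTest.of_check (by decide +kernel)

set_option maxRecDepth 100000 in
theorem rootRange306276 : RangeTest (rootTest 304776) 306276 306696 :=
  RangeTest.of_check (by decide +kernel)

set_option maxRecDepth 100000 in
theorem rootRange306696 : RangeTest (rootTest 306696) 306696 306936 :=
  RangeTest.of_check (by decide +kernel)

end CfsgLib.Spor.Fi24
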