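/-
Descent on ranges of points.
-/
import Cfsg.Agent.Lib.Spor.Fi24Pres.RootTest.Test

namespace CfsgLib.Spor.Fi24

open CfsgLib.Spor.TC

set_option maxRecDepth 100000 in
theorem rootRange43316 : RangeTest (rootTest 35816) 43316 44816 :=
  RangeTest.of_check (by decide +kernel)

set_option maxRecDepth 100000 in
theorem rootRange44816 : RangeTest (rootTest 35816) 44816 46316 :=
  RangeTest.of_check (by decide +kernel)

set_option maxRecDepth 100000 in
theorem rootRange46316 : RangeTest (rootTest 35816) 46316 47816 :=
  RangeTest.of_check (by decide +kernel)

set_option maxRecDepth 100000 in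
theorem rootRange47816 : RangeTest (rootTest 35816) 47816 49316 :=
  RangeTest.of_check (by decide +kernel)

set_option maxRecDepth 100000 in
theorem rootRange49316 : RangeTest (rootTest 35816) 49316 50816 :=
  RangeTest.of_check (by decide +kernel)

set_option maxRecDepth 100000 in
theorem rootRange50816 : RangeTest (rootTest 35816) 50816 52316 :=
  RangeTest.of_check (by decide +kernel)

set_option maxRecDepth 100000 in
theorem rootRange52316 : RangeTest (rootTest 35816) 52316 53816 :=
  RangeTest.of_check (by decide +kernel)

set_option maxRecDepth 100000 in
theorem rootRange53816 : RangeTest (rootTest 35816) 53816 55316 :=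
  RangeTest.of_check (by decide +kernel)

set_option maxRecDepth 100000 in
theorem rootRange55316 : RangeTest (rootTest 35816) 55316 56816 :=
  RangeTest.of_check (by decide +kernel)

set_option maxRecDepth 100000 in
theorem rootRange56816 : RangeTest (rootTest 35816) 56816 58216 :=
  RangeTest.of_check (by decide +kernel)

set_option maxRecDepth 100000 in
theorem rootRange58216 : RangeTest (rootTest 58216) 58216 59716 :=
  RangeTest.of_check (by decide +kernel)

set_option maxRecDepth 100000 in
theorem rootRange59716 : RangeTest (rootTest 58216) 59716 61216 :=
  RangeTest.of_check (by decide +kernel)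

set_option maxRecDepth 100000 in
theorem rootRange61216 : RangeTest (rootTest 58216) 61216 62716 :=
  RangeTest.of_check (by decide +kernel)

set_option maxRecDepth 100000 in
theorem rootRange62716 : RangeTest (rootTest 58216) 62716 64216 :=
  RangeTest.of_check (by decide +kernel)

set_option maxRecDepth 100000 in
theorem rootRange64216 : RangeTest (rootTest 58216) 64216 65716 :=
  RangeTest.of_check (by decide +kernel)

set_option maxRecDepth 100000 in
theorem rootRange65716 : RangeTest (rootTest 58216) 65716 67216 :=
  RangeTest.of_check (by decide +kernel)

set_option maxRecDepth 100000 in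
theorem rootRange67216 : RangeTest (rootTest 58216) 67216 68716 :=
  RangeTest.of_check (by decide +kernel)

set_option maxRecDepth 100000 in
theorem rootRange68716 : RangeTest (rootTest 58216) 68716 70216 :=
  RangeTest.of_check (by decide +kernel)

set_option maxRecDepth 100000 in
theorem rootRange70216 : RangeTest (rootTest 58216) 70216 71716 :=
  RangeTest.of_check (by decide +kernel)

set_option maxRecDepth 100000 in
theorem rootRange71716 : RangeTest (rootTest 58216) 71716 73216 :=
  RangeTest.of_check (by decide +kernel)

end CfsgLib.Spor.Fi24
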