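/-
Descent on ranges of points.
-/
import Cfsg.Agent.Lib.Spor.Fi24Pres.RootTest.Test

namespace CfsgLib.Spor.Fi24

open CfsgLib.Spor.TC

set_option maxRecDepth 100000 in
theorem rootRange73216 : RangeTest (rootTest 58216) 73216 74716 :=
  RangeTest.of_check (by decide +kernel)

set_option maxRecDepth 100000 in
theorem rootRange74716 : RangeTest (rootTest 58216) 74716 76216 :=
  RangeTest.of_check (by decide +kernel)

set_option maxRecDepth 100000 in
theorem rootRange76216 : RangeTest (rootTest 58216) 76216 77716 :=
  RangeTest.of_check (by decide +kernel)

set_option maxRecDepth 100000 in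
theorem rootRange77716 : RangeTest (rootTest 58216) 77716 79216 :=
  RangeTest.of_check (by decide +kernel)

set_option maxRecDepth 100000 in
theorem rootRange79216 : RangeTest (rootTest 58216) 79216 80616 :=
  RangeTest.of_check (by decide +kernel)

set_option maxRecDepth 100000 in
theorem rootRange80616 : RangeTest (rootTest 80616) 80616 82116 :=
  RangeTest.of_check (by decide +kernel)

set_option maxRecDepth 100000 in
theorem rootRange82116 : RangeTest (rootTest 80616) 82116 83616 :=
  RangeTest.of_check (by decide +kernel)

set_option maxRecDepth 100000 in
theorem rootRange83616 : RangeTest (rootTest 80616) 83616 85116 :=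
  RangeTest.of_check (by decide +kernel)

set_option maxRecDepth 100000 in
theorem rootRange85116 : RangeTest (rootTest 80616) 85116 86616 :=
  RangeTest.of_check (by decide +kernel)

set_option maxRecDepth 100000 in
theorem rootRange86616 : RangeTest (rootTest 80616) 86616 88116 :=
  RangeTest.of_check (by decide +kernel)

set_option maxRecDepth 100000 in
theorem rootRange88116 : RangeTest (rootTest 80616) 88116 89616 :=
  RangeTest.of_check (by decide +kernel)

set_option maxRecDepth 100000 in
theorem rootRange89616 : RangeTest (rootTest 80616) 89616 91116 :=
  RangeTest.of_check (by decide +kernel)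

set_option maxRecDepth 100000 in
theorem rootRange91116 : RangeTest (rootTest 80616) 91116 92616 :=
  RangeTest.of_check (by decide +kernel)

set_option maxRecDepth 100000 in
theorem rootRange92616 : RangeTest (rootTest 80616) 92616 94116 :=
  RangeTest.of_check (by decide +kernel)

set_option maxRecDepth 100000 in
theorem rootRange94116 : RangeTest (rootTest 80616) 94116 95616 :=
  RangeTest.of_check (by decide +kernel)

set_option maxRecDepth 100000 in
theorem rootRange95616 : RangeTest (rootTest 80616) 95616 97116 :=
  RangeTest.of_check (by decide +kernel)

set_option maxRecDepth 100000 in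
theorem rootRange97116 : RangeTest (rootTest 80616) 97116 98616 :=
  RangeTest.of_check (by decide +kernel)

set_option maxRecDepth 100000 in
theorem rootRange98616 : RangeTest (rootTest 80616) 98616 100116 :=
  RangeTest.of_check (by decide +kernel)

set_option maxRecDepth 100000 in
theorem rootRange100116 : RangeTest (rootTest 80616) 100116 101616 :=
  RangeTest.of_check (by decide +kernel)

set_option maxRecDepth 100000 in
theorem rootRange101616 : RangeTest (rootTest 80616) 101616 103016 :=
  RangeTest.of_check (by decide +kernel)

end CfsgLib.Spor.Fi24
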