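/-
Descent on ranges of points.
-/
import Cfsg.Agent.Lib.Spor.Fi24Pres.RootTest.Test

namespace CfsgLib.Spor.Fi24

open CfsgLib.Spor.TC

set_option maxRecDepth 100000 in
theorem rootRange103016 : RangeTest (rootTest 103016) 103016 104516 :=
  RangeTest.of_check (by decide +kernel)

set_option maxRecDepth 100000 in
theorem rootRange104516 : RangeTest (rootTest 103016) 104516 106016 :=
  RangeTest.of_check (by decide +kernel)

set_option maxRecDepth 100000 in
theorem rootRange106016 : RangeTest (rootTest 103016) 106016 107516 :=
  RangeTest.of_check (by decide +kernel)

set_option maxRecDepth 100000 in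
theorem rootRange107516 : RangeTest (rootTest 103016) 107516 109016 :=
  RangeTest.of_check (by decide +kernel)

set_option maxRecDepth 100000 in
theorem rootRange109016 : RangeTest (rootTest 103016) 109016 110516 :=
  RangeTest.of_check (by decide +kernel)

set_option maxRecDepth 100000 in
theorem rootRange110516 : RangeTest (rootTest 103016) 110516 112016 :=
  RangeTest.of_check (by decide +kernel)

set_option maxRecDepth 100000 in
theorem rootRange112016 : RangeTest (rootTest 103016) 112016 113516 :=
  RangeTest.of_check (by decide +kernel)

set_option maxRecDepth 100000 in
theorem rootRange113516 : RangeTest (rootTest 103016) 113516 115016 :=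
  RangeTest.of_check (by decide +kernel)

set_option maxRecDepth 100000 in
theorem rootRange115016 : RangeTest (rootTest 103016) 115016 116516 :=
  RangeTest.of_check (by decide +kernel)

set_option maxRecDepth 100000 in
theorem rootRange116516 : RangeTest (rootTest 103016) 116516 118016 :=
  RangeTest.of_check (by decide +kernel)

set_option maxRecDepth 100000 in
theorem rootRange118016 : RangeTest (rootTest 103016) 118016 119516 :=
  RangeTest.of_check (by decide +kernel)

set_option maxRecDepth 100000 in
theorem rootRange119516 : RangeTest (rootTest 103016) 119516 121016 :=
  RangeTest.of_check (by decide +kernel)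

set_option maxRecDepth 100000 in
theorem rootRange121016 : RangeTest (rootTest 103016) 121016 122516 :=
  RangeTest.of_check (by decide +kernel)

set_option maxRecDepth 100000 in
theorem rootRange122516 : RangeTest (rootTest 103016) 122516 124016 :=
  RangeTest.of_check (by decide +kernel)

set_option maxRecDepth 100000 in
theorem rootRange124016 : RangeTest (rootTest 103016) 124016 125416 :=
  RangeTest.of_check (by decide +kernel)

set_option maxRecDepth 100000 in
theorem rootRange125416 : RangeTest (rootTest 125416) 125416 126916 :=
  RangeTest.of_check (by decide +kernel)

set_option maxRecDepth 100000 in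
theorem rootRange126916 : RangeTest (rootTest 125416) 126916 128416 :=
  RangeTest.of_check (by decide +kernel)

set_option maxRecDepth 100000 in
theorem rootRange128416 : RangeTest (rootTest 125416) 128416 129916 :=
  RangeTest.of_check (by decide +kernel)

set_option maxRecDepth 100000 in
theorem rootRange129916 : RangeTest (rootTest 125416) 129916 131416 :=
  RangeTest.of_check (by decide +kernel)

set_option maxRecDepth 100000 in
theorem rootRange131416 : RangeTest (rootTest 125416) 131416 132916 :=
  RangeTest.of_check (by decide +kernel)

end CfsgLib.Spor.Fi24
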