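/-
Descent on ranges of points.
-/
import Cfsg.Agent.Lib.Spor.Fi24Pres.RootTest.Test

namespace CfsgLib.Spor.Fi24

open CfsgLib.Spor.TC

set_option maxRecDepth 100000 in
theorem rootRange132916 : RangeTest (rootTest 125416) 132916 134416 :=
  RangeTest.of_check (by decide +kernel)

set_option maxRecDepth 100000 in
theorem rootRange134416 : RangeTest (rootTest 125416) 134416 135916 :=
  RangeTest.of_check (by decide +kernel)

set_option maxRecDepth 100000 in
theorem rootRange135916 : RangeTest (rootTest 125416) 135916 137416 :=
  RangeTest.of_check (by decide +kernel)

set_option maxRecDepth 100000 in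
theorem rootRange137416 : RangeTest (rootTest 125416) 137416 138916 :=
  RangeTest.of_check (by decide +kernel)

set_option maxRecDepth 100000 in
theorem rootRange138916 : RangeTest (rootTest 125416) 138916 140416 :=
  RangeTest.of_check (by decide +kernel)

set_option maxRecDepth 100000 in
theorem rootRange140416 : RangeTest (rootTest 125416) 140416 141916 :=
  RangeTest.of_check (by decide +kernel)

set_option maxRecDepth 100000 in
theorem rootRange141916 : RangeTest (rootTest 125416) 141916 143416 :=
  RangeTest.of_check (by decide +kernel)

set_option maxRecDepth 100000 in
theorem rootRange143416 : RangeTest (rootTest 125416) 143416 144916 :=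
  RangeTest.of_check (by decide +kernel)

set_option maxRecDepth 100000 in
theorem rootRange144916 : RangeTest (rootTest 125416) 144916 146416 :=
  RangeTest.of_check (by decide +kernel)

set_option maxRecDepth 100000 in
theorem rootRange146416 : RangeTest (rootTest 125416) 146416 147816 :=
  RangeTest.of_check (by decide +kernel)

set_option maxRecDepth 100000 in
theorem rootRange147816 : RangeTest (rootTest 147816) 147816 149316 :=
  RangeTest.of_check (by decide +kernel)

set_option maxRecDepth 100000 in
theorem rootRange149316 : RangeTest (rootTest 147816) 149316 150816 :=
  RangeTest.of_check (by decide +kernel)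

set_option maxRecDepth 100000 in
theorem rootRange150816 : RangeTest (rootTest 147816) 150816 152316 :=
  RangeTest.of_check (by decide +kernel)

set_option maxRecDepth 100000 in
theorem rootRange152316 : RangeTest (rootTest 147816) 152316 153816 :=
  RangeTest.of_check (by decide +kernel)

set_option maxRecDepth 100000 in
theorem rootRange153816 : RangeTest (rootTest 147816) 153816 155316 :=
  RangeTest.of_check (by decide +kernel)

set_option maxRecDepth 100000 in
theorem rootRange155316 : RangeTest (rootTest 147816) 155316 156816 :=
  RangeTest.of_check (by decide +kernel)

set_option maxRecDepth 100000 in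
theorem rootRange156816 : RangeTest (rootTest 147816) 156816 158316 :=
  RangeTest.of_check (by decide +kernel)

set_option maxRecDepth 100000 in
theorem rootRange158316 : RangeTest (rootTest 147816) 158316 159816 :=
  RangeTest.of_check (by decide +kernel)

set_option maxRecDepth 100000 in
theorem rootRange159816 : RangeTest (rootTest 147816) 159816 161316 :=
  RangeTest.of_check (by decide +kernel)

set_option maxRecDepth 100000 in
theorem rootRange161316 : RangeTest (rootTest 147816) 161316 162816 :=
  RangeTest.of_check (by decide +kernel)

end CfsgLib.Spor.Fi24
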