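/-
Descent on ranges of points.
-/
import Cfsg.Agent.Lib.Spor.Fi24Pres.RootTest.Test

namespace CfsgLib.Spor.Fi24

open CfsgLib.Spor.TC

set_option maxRecDepth 100000 in
theorem rootRange162816 : RangeTest (rootTest 147816) 162816 164316 :=
  RangeTest.of_check (by decide +kernel)

set_option maxRecDepth 100000 in
theorem rootRange164316 : RangeTest (rootTest 147816) 164316 165816 :=
  RangeTest.of_check (by decide +kernel)

set_option maxRecDepth 100000 in
theorem rootRange165816 : RangeTest (rootTest 147816) 165816 167316 :=
  RangeTest.of_check (by decide +kernel)

set_option maxRecDepth 100000 in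
theorem rootRange167316 : RangeTest (rootTest 147816) 167316 168816 :=
  RangeTest.of_check (by decide +kernel)

set_option maxRecDepth 100000 in
theorem rootRange168816 : RangeTest (rootTest 147816) 168816 170316 :=
  RangeTest.of_check (by decide +kernel)

set_option maxRecDepth 100000 in
theorem rootRange170316 : RangeTest (rootTest 147816) 170316 171816 :=
  RangeTest.of_check (by decide +kernel)

set_option maxRecDepth 100000 in
theorem rootRange171816 : RangeTest (rootTest 147816) 171816 173316 :=
  RangeTest.of_check (by decide +kernel)

set_option maxRecDepth 100000 in
theorem rootRange173316 : RangeTest (rootTest 147816) 173316 174816 :=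
  RangeTest.of_check (by decide +kernel)

set_option maxRecDepth 100000 in
theorem rootRange174816 : RangeTest (rootTest 147816) 174816 176316 :=
  RangeTest.of_check (by decide +kernel)

set_option maxRecDepth 100000 in
theorem rootRange176316 : RangeTest (rootTest 147816) 176316 177816 :=
  RangeTest.of_check (by decide +kernel)

set_option maxRecDepth 100000 in
theorem rootRange177816 : RangeTest (rootTest 147816) 177816 179316 :=
  RangeTest.of_check (by decide +kernel)

set_option maxRecDepth 100000 in
theorem rootRange179316 : RangeTest (rootTest 147816) 179316 180816 :=
  RangeTest.of_check (by decide +kernel)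

set_option maxRecDepth 100000 in
theorem rootRange180816 : RangeTest (rootTest 147816) 180816 182316 :=
  RangeTest.of_check (by decide +kernel)

set_option maxRecDepth 100000 in
theorem rootRange182316 : RangeTest (rootTest 147816) 182316 183816 :=
  RangeTest.of_check (by decide +kernel)

set_option maxRecDepth 100000 in
theorem rootRange183816 : RangeTest (rootTest 147816) 183816 185316 :=
  RangeTest.of_check (by decide +kernel)

set_option maxRecDepth 100000 in
theorem rootRange185316 : RangeTest (rootTest 147816) 185316 186816 :=
  RangeTest.of_check (by decide +kernel)

set_option maxRecDepth 100000 in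
theorem rootRange186816 : RangeTest (rootTest 147816) 186816 188316 :=
  RangeTest.of_check (by decide +kernel)

set_option maxRecDepth 100000 in
theorem rootRange188316 : RangeTest (rootTest 147816) 188316 189816 :=
  RangeTest.of_check (by decide +kernel)

set_option maxRecDepth 100000 in
theorem rootRange189816 : RangeTest (rootTest 147816) 189816 191316 :=
  RangeTest.of_check (by decide +kernel)

set_option maxRecDepth 100000 in
theorem rootRange191316 : RangeTest (rootTest 147816) 191316 192816 :=
  RangeTest.of_check (by decide +kernel)

end CfsgLib.Spor.Fi24
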