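/-
Descent on ranges of points.
-/
import Cfsg.Agent.Lib.Spor.Fi24Pres.RootTest.Test

namespace CfsgLib.Spor.Fi24

open CfsgLib.Spor.TC

set_option maxRecDepth 100000 in
theorem rootRange192816 : RangeTest (rootTest 147816) 192816 194316 :=
  RangeTest.of_check (by decide +kernel)

set_option maxRecDepth 100000 in
theorem rootRange194316 : RangeTest (rootTest 147816) 194316 195816 :=
  RangeTest.of_check (by decide +kernel)

set_option maxRecDepth 100000 in
theorem rootRange195816 : RangeTest (rootTest 147816) 195816 197316 :=
  RangeTest.of_check (by decide +kernel)

set_option maxRecDepth 100000 in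
theorem rootRange197316 : RangeTest (rootTest 147816) 197316 198816 :=
  RangeTest.of_check (by decide +kernel)

set_option maxRecDepth 100000 in
theorem rootRange198816 : RangeTest (rootTest 147816) 198816 200316 :=
  RangeTest.of_check (by decide +kernel)

set_option maxRecDepth 100000 in
theorem rootRange200316 : RangeTest (rootTest 147816) 200316 201816 :=
  RangeTest.of_check (by decide +kernel)

set_option maxRecDepth 100000 in
theorem rootRange201816 : RangeTest (rootTest 147816) 201816 203316 :=
  RangeTest.of_check (by decide +kernel)

set_option maxRecDepth 100000 in
theorem rootRange203316 : RangeTest (rootTest 147816) 203316 204816 :=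
  RangeTest.of_check (by decide +kernel)

set_option maxRecDepth 100000 in
theorem rootRange204816 : RangeTest (rootTest 147816) 204816 206316 :=
  RangeTest.of_check (by decide +kernel)

set_option maxRecDepth 100000 in
theorem rootRange206316 : RangeTest (rootTest 147816) 206316 207816 :=
  RangeTest.of_check (by decide +kernel)

set_option maxRecDepth 100000 in
theorem rootRange207816 : RangeTest (rootTest 147816) 207816 209316 :=
  RangeTest.of_check (by decide +kernel)

set_option maxRecDepth 100000 in
theorem rootRange209316 : RangeTest (rootTest 147816) 209316 210816 :=
  RangeTest.of_check (by decide +kernel)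

set_option maxRecDepth 100000 in
theorem rootRange210816 : RangeTest (rootTest 147816) 210816 212316 :=
  RangeTest.of_check (by decide +kernel)

set_option maxRecDepth 100000 in
theorem rootRange212316 : RangeTest (rootTest 147816) 212316 213816 :=
  RangeTest.of_check (by decide +kernel)

set_option maxRecDepth 100000 in
theorem rootRange213816 : RangeTest (rootTest 147816) 213816 215316 :=
  RangeTest.of_check (by decide +kernel)

set_option maxRecDepth 100000 in
theorem rootRange215316 : RangeTest (rootTest 147816) 215316 216816 :=
  RangeTest.of_check (by decide +kernel)

set_option maxRecDepth 100000 in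
theorem rootRange216816 : RangeTest (rootTest 147816) 216816 218316 :=
  RangeTest.of_check (by decide +kernel)

set_option maxRecDepth 100000 in
theorem rootRange218316 : RangeTest (rootTest 147816) 218316 219816 :=
  RangeTest.of_check (by decide +kernel)

set_option maxRecDepth 100000 in
theorem rootRange219816 : RangeTest (rootTest 147816) 219816 221316 :=
  RangeTest.of_check (by decide +kernel)

set_option maxRecDepth 100000 in
theorem rootRange221316 : RangeTest (rootTest 147816) 221316 222816 :=
  RangeTest.of_check (by decide +kernel)

end CfsgLib.Spor.Fi24
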