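/-
Descent on ranges of points.
-/
import Cfsg.Agent.Lib.Spor.Fi24Pres.RootTest.Test

namespace CfsgLib.Spor.Fi24

open CfsgLib.Spor.TC

set_option maxRecDepth 100000 in
theorem rootRange222816 : RangeTest (rootTest 147816) 222816 224316 :=
  RangeTest.of_check (by decide +kernel)

set_option maxRecDepth 100000 in
theorem rootRange224316 : RangeTest (rootTest 147816) 224316 225816 :=
  RangeTest.of_check (by decide +kernel)

set_option maxRecDepth 100000 in
theorem rootRange225816 : RangeTest (rootTest 147816) 225816 227316 :=
  RangeTest.of_check (by decide +kernel)

set_option maxRecDepth 100000 in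
theorem rootRange227316 : RangeTest (rootTest 147816) 227316 228816 :=
  RangeTest.of_check (by decide +kernel)

set_option maxRecDepth 100000 in
theorem rootRange228816 : RangeTest (rootTest 147816) 228816 230316 :=
  RangeTest.of_check (by decide +kernel)

set_option maxRecDepth 100000 in
theorem rootRange230316 : RangeTest (rootTest 147816) 230316 231816 :=
  RangeTest.of_check (by decide +kernel)

set_option maxRecDepth 100000 in
theorem rootRange231816 : RangeTest (rootTest 147816) 231816 233316 :=
  RangeTest.of_check (by decide +kernel)

set_option maxRecDepth 100000 in
theorem rootRange233316 : RangeTest (rootTest 147816) 233316 234816 :=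
  RangeTest.of_check (by decide +kernel)

set_option maxRecDepth 100000 in
theorem rootRange234816 : RangeTest (rootTest 147816) 234816 236316 :=
  RangeTest.of_check (by decide +kernel)

set_option maxRecDepth 100000 in
theorem rootRange236316 : RangeTest (rootTest 147816) 236316 237816 :=
  RangeTest.of_check (by decide +kernel)

set_option maxRecDepth 100000 in
theorem rootRange237816 : RangeTest (rootTest 147816) 237816 239316 :=
  RangeTest.of_check (by decide +kernel)

set_option maxRecDepth 100000 in
theorem rootRange239316 : RangeTest (rootTest 147816) 239316 240816 :=
  RangeTest.of_check (by decide +kernel)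

set_option maxRecDepth 100000 in
theorem rootRange240816 : RangeTest (rootTest 147816) 240816 242316 :=
  RangeTest.of_check (by decide +kernel)

set_option maxRecDepth 100000 in
theorem rootRange242316 : RangeTest (rootTest 147816) 242316 243816 :=
  RangeTest.of_check (by decide +kernel)

set_option maxRecDepth 100000 in
theorem rootRange243816 : RangeTest (rootTest 147816) 243816 245316 :=
  RangeTest.of_check (by decide +kernel)

set_option maxRecDepth 100000 in
theorem rootRange245316 : RangeTest (rootTest 147816) 245316 246816 :=
  RangeTest.of_check (by decide +kernel)

set_option maxRecDepth 100000 in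
theorem rootRange246816 : RangeTest (rootTest 147816) 246816 248316 :=
  RangeTest.of_check (by decide +kernel)

set_option maxRecDepth 100000 in
theorem rootRange248316 : RangeTest (rootTest 147816) 248316 249816 :=
  RangeTest.of_check (by decide +kernel)

set_option maxRecDepth 100000 in
theorem rootRange249816 : RangeTest (rootTest 147816) 249816 251316 :=
  RangeTest.of_check (by decide +kernel)

set_option maxRecDepth 100000 in
theorem rootRange251316 : RangeTest (rootTest 147816) 251316 252816 :=
  RangeTest.of_check (by decide +kernel)

end CfsgLib.Spor.Fi24
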