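/-
Descent on ranges of points.
-/
import Cfsg.Agent.Lib.Spor.Fi24Pres.RootTest.Test

namespace CfsgLib.Spor.Fi24

open CfsgLib.Spor.TC

set_option maxRecDepth 100000 in
theorem rootRange252816 : RangeTest (rootTest 147816) 252816 254316 :=
  RangeTest.of_check (by decide +kernel)

set_option maxRecDepth 100000 in
theorem rootRange254316 : RangeTest (rootTest 147816) 254316 255816 :=
  RangeTest.of_check (by decide +kernel)

set_option maxRecDepth 100000 in
theorem rootRange255816 : RangeTest (rootTest 147816) 255816 257316 :=
  RangeTest.of_check (by decide +kernel)

set_option maxRecDepth 100000 in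
theorem rootRange257316 : RangeTest (rootTest 147816) 257316 258816 :=
  RangeTest.of_check (by decide +kernel)

set_option maxRecDepth 100000 in
theorem rootRange258816 : RangeTest (rootTest 147816) 258816 260316 :=
  RangeTest.of_check (by decide +kernel)

set_option maxRecDepth 100000 in
theorem rootRange260316 : RangeTest (rootTest 147816) 260316 261816 :=
  RangeTest.of_check (by decide +kernel)

set_option maxRecDepth 100000 in
theorem rootRange261816 : RangeTest (rootTest 147816) 261816 263316 :=
  RangeTest.of_check (by decide +kernel)

set_option maxRecDepth 100000 in
theorem rootRange263316 : RangeTest (rootTest 147816) 263316 264816 :=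
  RangeTest.of_check (by decide +kernel)

set_option maxRecDepth 100000 in
theorem rootRange264816 : RangeTest (rootTest 147816) 264816 266316 :=
  RangeTest.of_check (by decide +kernel)

set_option maxRecDepth 100000 in
theorem rootRange266316 : RangeTest (rootTest 147816) 266316 267816 :=
  RangeTest.of_check (by decide +kernel)

set_option maxRecDepth 100000 in
theorem rootRange267816 : RangeTest (rootTest 147816) 267816 269316 :=
  RangeTest.of_check (by decide +kernel)

set_option maxRecDepth 100000 in
theorem rootRange269316 : RangeTest (rootTest 147816) 269316 270816 :=
  RangeTest.of_check (by decide +kernel)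

set_option maxRecDepth 100000 in
theorem rootRange270816 : RangeTest (rootTest 147816) 270816 272316 :=
  RangeTest.of_check (by decide +kernel)

set_option maxRecDepth 100000 in
theorem rootRange272316 : RangeTest (rootTest 147816) 272316 273816 :=
  RangeTest.of_check (by decide +kernel)

set_option maxRecDepth 100000 in
theorem rootRange273816 : RangeTest (rootTest 147816) 273816 275316 :=
  RangeTest.of_check (by decide +kernel)

set_option maxRecDepth 100000 in
theorem rootRange275316 : RangeTest (rootTest 147816) 275316 276816 :=
  RangeTest.of_check (by decide +kernel)

set_option maxRecDepth 100000 in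
theorem rootRange276816 : RangeTest (rootTest 147816) 276816 278316 :=
  RangeTest.of_check (by decide +kernel)

set_option maxRecDepth 100000 in
theorem rootRange278316 : RangeTest (rootTest 147816) 278316 279816 :=
  RangeTest.of_check (by decide +kernel)

set_option maxRecDepth 100000 in
theorem rootRange279816 : RangeTest (rootTest 147816) 279816 281316 :=
  RangeTest.of_check (by decide +kernel)

set_option maxRecDepth 100000 in
theorem rootRange281316 : RangeTest (rootTest 147816) 281316 282816 :=
  RangeTest.of_check (by decide +kernel)

end CfsgLib.Spor.Fi24
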