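/-
Descent on all intervals.
-/
import Cfsg.Agent.Lib.Spor.Fi24Pres.RootTest.Part0
import Cfsg.Agent.Lib.Spor.Fi24Pres.RootTest.Part1
import Cfsg.Agent.Lib.Spor.Fi24Pres.RootTest.Part2
import Cfsg.Agent.Lib.Spor.Fi24Pres.RootTest.Part3
import Cfsg.Agent.Lib.Spor.Fi24Pres.RootTest.Part4
import Cfsg.Agent.Lib.Spor.Fi24Pres.RootTest.Part5
import Cfsg.Agent.Lib.Spor.Fi24Pres.RootTest.Part6
import Cfsg.Agent.Lib.Spor.Fi24Pres.RootTest.Part7
import Cfsg.Agent.Lib.Spor.Fi24Pres.RootTest.Part8
import Cfsg.Agent.Lib.Spor.Fi24Pres.RootTest.Part9
import Cfsg.Agent.Lib.Spor.Fi24Pres.RootTest.Part10

namespace CfsgLib.Spor.Fi24

open CfsgLib.Spor.TC

theorem all_roots : ∀ o ∈ orbs, RangeTest (rootTest o.root) o.root (o.root + o.size) := by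
  simp only [orbs, List.forall_mem_cons, List.not_mem_nil, false_implies, implies_true, and_true]
  exact ⟨rootRange0,
    rootRange1,
    rootRange2,
    rootRange3,
    rootRange4,
    rootRange5,
    rootRange965,
    rootRange966,
    rootRange1926,
    rootRange2886,
    rootRange3846,
    (rootRange3966.append (rootRange5466.append rootRange6966)),
    (rootRange7116.append (rootRange8616.append rootRange10116)),
    (rootRange10266.append (rootRange11766.append rootRange13266)),
    (((rootRange13416.append (rootRange14916.append rootRange16416)).append ((rootRange17916.append rootRange19416).append (rootRange20916.append rootRange22416))).append (((rootRange23916.append rootRange25416).append (rootRange26916.append rootRange28416)).append ((rootRange29916.append rootRange31416).append (rootRange32916.append rootRange34416)))),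
    (((rootRange35816.append (rootRange37316.append rootRange38816)).append ((rootRange40316.append rootRange41816).append (rootRange43316.append rootRange44816))).append (((rootRange46316.append rootRange47816).append (rootRange49316.append rootRange50816)).append ((rootRange52316.append rootRange53816).append (rootRange55316.append rootRange56816)))),
    (((rootRange58216.append (rootRange59716.append rootRange61216)).append ((rootRange62716.append rootRange64216).append (rootRange65716.append rootRange67216))).append (((rootRange68716.append rootRange70216).append (rootRange71716.append rootRange73216)).append ((rootRange74716.append rootRange76216).append (rootRange77716.append rootRange79216)))),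
    (((rootRange80616.append (rootRange82116.append rootRange83616)).append ((rootRange85116.append rootRange86616).append (rootRange88116.append rootRange89616))).append (((rootRange91116.append rootRange92616).append (rootRange94116.append rootRange95616)).append ((rootRange97116.append rootRange98616).append (rootRange100116.append rootRange101616)))),
    (((rootRange103016.append (rootRange104516.append rootRange106016)).append ((rootRange107516.append rootRange109016).append (rootRange110516.append rootRange112016))).append (((rootRange113516.append rootRange115016).append (rootRange116516.append rootRange118016)).append ((rootRange119516.append rootRange121016).append (rootRange122516.append rootRange124016)))),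
    (((rootRange125416.append (rootRange126916.append rootRange128416)).append ((rootRange129916.append rootRange131416).append (rootRange132916.append rootRange134416))).append (((rootRange135916.append rootRange137416).append (rootRange138916.append rootRange140416)).append ((rootRange141916.append rootRange143416).append (rootRange144916.append rootRange146416)))),
    ((((((rootRange147816.append (rootRange149316.append rootRange150816)).append (rootRange152316.append (rootRange153816.append rootRange155316))).append ((rootRange156816.append (rootRange158316.append rootRange159816)).append (rootRange161316.append (rootRange162816.append rootRange164316)))).append (((rootRange165816.append (rootRange167316.append rootRange168816)).append (rootRange170316.append (rootRange171816.append rootRange173316))).append ((rootRange174816.append (rootRange176316.append rootRange177816)).append ((rootRange179316.append rootRange180816).append (rootRange182316.append rootRange183816))))).append ((((rootRange185316.append (rootRange186816.append rootRange188316)).append (rootRange189816.append (rootRange191316.append rootRange192816))).append ((rootRange194316.append (rootRange195816.append rootRange197316)).append (rootRange198816.append (rootRange200316.append rootRange201816)))).append (((rootRange203316.append (rootRange204816.append rootRange206316)).append (rootRange207816.append (rootRange209316.append rootRange210816))).append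 ((rootRange212316.append (rootRange213816.append rootRange215316)).append ((rootRange216816.append rootRange218316).append (rootRange219816.append rootRange221316)))))).append (((((rootRange222816.append (rootRange224316.append rootRange225816)).append (rootRange227316.append (rootRange228816.append rootRange230316))).append ((rootRange231816.append (rootRange233316.append rootRange234816)).append (rootRange236316.append (rootRange237816.append rootRange239316)))).append (((rootRange240816.append (rootRange242316.append rootRange243816)).append (rootRange245316.append (rootRange246816.append rootRange248316))).append ((rootRange249816.append (rootRange251316.append rootRange252816)).append ((rootRange254316.append rootRange255816).append (rootRange257316.append rootRange258816))))).append ((((rootRange260316.append (rootRange261816.append rootRange263316)).append (rootRange264816.append (rootRange266316.append rootRange267816))).append ((rootRange269316.append (rootRange270816.append rootRange272316)).append ((rootRange273816.append rootRange275316).append (rootRange276816.append rootRange278316)))).append (((rootRange279816.append (rootRange281316.append rootRange282816)).append (rootRange284316.append (rootRange285816.append rootRange287316))).append ((rootRange288816.append (rootRange290316.append rootRange291816)).append ((rootRange293316.append rootRange294816).append (rootRange296316.append rootRange297816))))))),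
    (rootRange299016.append rootRange300516),
    (rootRange300936.append rootRange302436),
    (rootRange302856.append rootRange304356),
    (rootRange304776.append rootRange306276),
    rootRange306696⟩

end CfsgLib.Spor.Fi24
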